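import Mathlib
import Cfsg.Prelude.Def_Transfer

/-!
The power map in `p`-groups of class at most three.
-/

namespace CfsgLib.SmallClass

open scoped commutatorElement

set_option autoImplicit false
set_option linter.style.haveILetI false

variable {R : Type*} [Group R]

/-- Collection formula when `y x = x y c`, `c x = x c d`, `c y = y c e` with central `d`, `e`. -/
theorem mul_pow_three {x y c d e : R} (hc : y * x = x * y * c) (hd : c * x = x * c * d)
    (he : c * y = y * c * e) (hdc : ∀ z : R, Commute d z) (hec : ∀ z : R, Commute e z) (n : ℕ) :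
    (x * y) ^ n = x ^ n * y ^ n * c ^ n.choose 2 * d ^ n.choose 3 *
      e ^ (2 * n.choose 3 + n.choose 2) := by
  have hcx : ∀ k : ℕ, c ^ k * x = x * c ^ k * d ^ k := by
    intro k
    induction k with
    | zero => simp
    | succ k ih =>
      calc c ^ (k + 1) * x = c ^ k * (c * x) := by rw [pow_succ, mul_assoc]
        _ = c ^ k * x * (c * d) := by rw [hd]; group
        _ = x * c ^ k * (d ^ k * c) * d := by rw [ih]; group
        _ = x * c ^ k * (c * d ^ k) * d := by rw [((hdc c).pow_left k).eq]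
        _ = x * (c ^ k * c) * (d ^ k * d) := by group
        _ = _ := by rw [← pow_succ, ← pow_succ]
  have hcy : ∀ k : ℕ, c ^ k * y = y * c ^ k * e ^ k := by
    intro k
    induction k with
    | zero => simp
    | succ k ih =>
      calc c ^ (k + 1) * y = c ^ k * (c * y) := by rw [pow_succ, mul_assoc]
        _ = c ^ k * y * (c * e) := by rw [he]; group
        _ = y * c ^ k * (e ^ k * c) * e := by rw [ih]; group
        _ = y * c ^ k * (c * e ^ k) * e := by rw [((hec c).pow_left k).eq]
        _ = y * (c ^ k * c) * (e ^ k * e) := by group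
        _ = _ := by rw [← pow_succ, ← pow_succ]
  have hyx : ∀ k : ℕ, y ^ k * x = x * y ^ k * c ^ k * e ^ k.choose 2 := by
    intro k
    induction k with
    | zero => simp
    | succ k ih =>
      have hch : (k + 1).choose 2 = k + k.choose 2 := by
        rw [Nat.choose_succ_succ', Nat.choose_one_right]
      calc y ^ (k + 1) * x = y ^ k * (y * x) := by rw [pow_succ, mul_assoc]
        _ = y ^ k * x * (y * c) := by rw [hc]; group
        _ = x * y ^ k * c ^ k * (e ^ k.choose 2 * y) * c := by rw [ih]; group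
        _ = x * y ^ k * c ^ k * (y * e ^ k.choose 2) * c := by rw [((hec y).pow_left _).eq]
        _ = x * y ^ k * (c ^ k * y) * (e ^ k.choose 2 * c) := by group
        _ = x * (y ^ k * y) * (c ^ k * (e ^ k * e ^ k.choose 2 * c)) := by rw [hcy k]; group
        _ = x * y ^ (k + 1) * (c ^ k * (c * (e ^ k * e ^ k.choose 2))) := by
          rw [← pow_succ, (((hec c).pow_left k).mul_left ((hec c).pow_left _)).eq]
        _ = _ := by rw [hch, pow_add e, pow_succ c]; group
  induction n with
  | zero => simp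
  | succ n ih =>
    have h2 : (n + 1).choose 2 = n + n.choose 2 := by
      rw [Nat.choose_succ_succ', Nat.choose_one_right]
    have h3 : (n + 1).choose 3 = n.choose 2 + n.choose 3 := Nat.choose_succ_succ' n 2
    set a := n.choose 2
    set f := n.choose 3
    set D := d ^ f
    set E := e ^ (2 * f + a)
    have hD : ∀ z : R, Commute D z := fun z => (hdc z).pow_left _
    have hE : ∀ z : R, Commute E z := fun z => (hec z).pow_left _
    have hE' : ∀ z : R, Commute (e ^ a) z := fun z => (hec z).pow_left _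
    have hDa : ∀ z : R, Commute (d ^ a) z := fun z => (hdc z).pow_left _
    calc (x * y) ^ (n + 1) = x ^ n * y ^ n * c ^ a * ((D * E) * (x * y)) := by
          rw [pow_succ, ih]; group
      _ = x ^ n * y ^ n * c ^ a * ((x * y) * (D * E)) := by
          rw [((hD _).mul_left (hE _)).eq]
      _ = x ^ n * y ^ n * (c ^ a * x) * y * (D * E) := by group
      _ = x ^ n * (y ^ n * x) * c ^ a * (d ^ a * y) * (D * E) := by rw [hcx a]; group
      _ = x ^ n * (y ^ n * x) * c ^ a * (y * d ^ a) * (D * E) := by rw [(hDa y).eq]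
      _ = x ^ n * x * y ^ n * c ^ n * (e ^ a * (c ^ a * y)) * (d ^ a * (D * E)) := by
          rw [hyx n, show n.choose 2 = a from rfl]; group
      _ = x ^ n * x * y ^ n * c ^ n * ((c ^ a * y) * e ^ a) * (d ^ a * (D * E)) := by
          rw [(hE' (c ^ a * y)).eq]
      _ = x ^ n * x * y ^ n * (c ^ n * c ^ a * y) * (e ^ a * (d ^ a * (D * E))) := by group
      _ = x ^ (n + 1) * (y ^ n * y) * (c ^ (n + a) * e ^ (n + a) * (e ^ a * (d ^ a * (D * E)))) := by
          rw [← pow_succ x, ← pow_add, hcy (n + a)]; group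
      _ = x ^ (n + 1) * y ^ (n + 1) * c ^ (n + a) * (e ^ (n + a) * e ^ a * (d ^ a * D) * E) := by
          rw [← pow_succ y]; group
      _ = x ^ (n + 1) * y ^ (n + 1) * c ^ (n + a) * ((d ^ a * D) * (e ^ (n + a) * e ^ a) * E) := by
          rw [((hDa (e ^ (n + a) * e ^ a)).mul_left (hD _)).eq]
      _ = _ := by
          rw [h2, h3, show D = d ^ f from rfl, ← pow_add d, show E = e ^ (2 * f + a) from rfl,
            show 2 * (a + f) + (n + a) = (n + a) + a + (2 * f + a) by ring, pow_add e, pow_add e]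
          group

/-- Class at most three: the commutators `c, d, e` of a pair. -/
theorem exists_collect (h3 : ⁅⁅commutator R, (⊤ : Subgroup R)⁆, (⊤ : Subgroup R)⁆ = ⊥) (x y : R) :
    ∃ c d e : R, c ∈ commutator R ∧ d ∈ ⁅commutator R, (⊤ : Subgroup R)⁆ ∧
      e ∈ ⁅commutator R, (⊤ : Subgroup R)⁆ ∧ y * x = x * y * c ∧ c * x = x * c * d ∧
      c * y = y * c * e ∧ (∀ z : R, Commute d z) ∧ (∀ z : R, Commute e z) := by
  have hcen : ∀ u ∈ ⁅commutator R, (⊤ : Subgroup R)⁆, ∀ z : R, Commute u z := by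
    intro u hu z
    have := Subgroup.commutator_mem_commutator hu (Subgroup.mem_top z)
    rwa [h3, Subgroup.mem_bot, commutatorElement_eq_one_iff_commute] at this
  have hc : ⁅y⁻¹, x⁻¹⁆ ∈ commutator R :=
    Subgroup.commutator_mem_commutator (Subgroup.mem_top _) (Subgroup.mem_top _)
  have hd : ⁅⁅y⁻¹, x⁻¹⁆⁻¹, x⁻¹⁆ ∈ ⁅commutator R, (⊤ : Subgroup R)⁆ :=
    Subgroup.commutator_mem_commutator ((commutator R).inv_mem hc) (Subgroup.mem_top _)
  have he : ⁅⁅y⁻¹, x⁻¹⁆⁻¹, y⁻¹⁆ ∈ ⁅commutator R, (⊤ : Subgroup R)⁆ :=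
    Subgroup.commutator_mem_commutator ((commutator R).inv_mem hc) (Subgroup.mem_top _)
  refine ⟨_, _, _, hc, hd, he, ?_, ?_, ?_, fun z => hcen _ hd z, fun z => hcen _ he z⟩
  all_goals simp only [commutatorElement_def]; group

theorem class_three_of_class_two (h2 : ⁅commutator R, (⊤ : Subgroup R)⁆ = ⊥) :
    ⁅⁅commutator R, (⊤ : Subgroup R)⁆, (⊤ : Subgroup R)⁆ = ⊥ := by
  rw [h2, Subgroup.commutator_bot_left]

/-- `(x y)^p = x^p y^p` once the commutators have exponent `p` and the class is small. -/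
theorem mul_pow_prime {p : ℕ} (hp : p.Prime)
    (hcl : (p ≠ 2 ∧ ⁅commutator R, (⊤ : Subgroup R)⁆ = ⊥) ∨
      (3 < p ∧ ⁅⁅commutator R, (⊤ : Subgroup R)⁆, (⊤ : Subgroup R)⁆ = ⊥))
    {x y c d e : R} (hc : y * x = x * y * c) (hd : c * x = x * c * d) (he : c * y = y * c * e)
    (hdm : d ∈ ⁅commutator R, (⊤ : Subgroup R)⁆) (hem : e ∈ ⁅commutator R, (⊤ : Subgroup R)⁆)
    (hdc : ∀ z : R, Commute d z) (hec : ∀ z : R, Commute e z)
    (h1 : c ^ p = 1) (h2 : d ^ p = 1) (h3 : e ^ p = 1) : (x * y) ^ p = x ^ p * y ^ p := by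
  rw [mul_pow_three hc hd he hdc hec p]
  obtain ⟨a, ha⟩ : p ∣ p.choose 2 := by
    refine hp.dvd_choose_self (by norm_num) ?_
    have := hp.two_le
    rcases hcl with h | h <;> omega
  rw [ha, pow_mul c, h1, one_pow, mul_one]
  rcases hcl with ⟨-, h⟩ | ⟨hp3, -⟩
  · rw [h, Subgroup.mem_bot] at hdm hem
    rw [hdm, hem, one_pow, one_pow, mul_one, mul_one]
  · obtain ⟨b, hb⟩ : p ∣ p.choose 3 := hp.dvd_choose_self (by norm_num) hp3
    rw [hb, show 2 * (p * b) + p * a = p * (2 * b + a) by ring, pow_mul d, pow_mul e, h2, h3,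
      one_pow, one_pow, mul_one, mul_one]

/-- Class at most two, odd `p`: the elements of exponent `p` are closed under products. -/
theorem mul_pow_eq_one_two {p : ℕ} (hp : p.Prime) (hp2 : p ≠ 2)
    (h2 : ⁅commutator R, (⊤ : Subgroup R)⁆ = ⊥) {x y : R} (hx : x ^ p = 1) (hy : y ^ p = 1) :
    (x * y) ^ p = 1 := by
  obtain ⟨c, d, e, hcm, hdm, hem, hc, hd, he, hdc, hec⟩ :=
    exists_collect (class_three_of_class_two h2) x y
  have hd1 : d = 1 := by rwa [h2, Subgroup.mem_bot] at hdm
  have he1 : e = 1 := by rwa [h2, Subgroup.mem_bot] at hem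
  have hcy : Commute c y := by rw [commute_iff_eq, he, he1, mul_one]
  have hc1 : c ^ p = 1 := by
    have hk : ∀ k : ℕ, y ^ k * x = x * y ^ k * c ^ k := by
      intro k
      induction k with
      | zero => simp
      | succ k ih =>
        calc y ^ (k + 1) * x = y ^ k * (y * x) := by rw [pow_succ, mul_assoc]
          _ = y ^ k * x * (y * c) := by rw [hc]; group
          _ = x * y ^ k * (c ^ k * y) * c := by rw [ih]; group
          _ = x * y ^ k * (y * c ^ k) * c := by rw [(hcy.pow_left k).eq]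
          _ = _ := by rw [pow_succ y, pow_succ c]; group
    have := hk p
    rw [hy, one_mul, mul_one] at this
    exact (mul_eq_left.mp this.symm)
  rw [mul_pow_prime hp (Or.inl ⟨hp2, h2⟩) hc hd he hdm hem hdc hec hc1 (by rw [hd1, one_pow])
    (by rw [he1, one_pow]), hx, hy, one_mul]

/-- Class at most three, `p > 3`: the elements of exponent `p` are closed under products. -/
theorem mul_pow_eq_one_three {p : ℕ} (hp : p.Prime) (hp3 : 3 < p)
    (h3 : ⁅⁅commutator R, (⊤ : Subgroup R)⁆, (⊤ : Subgroup R)⁆ = ⊥) {x y : R} (hx : x ^ p = 1)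
    (hy : y ^ p = 1) : (x * y) ^ p = 1 := by
  obtain ⟨c, d, e, hcm, hdm, hem, hc, hd, he, hdc, hec⟩ := exists_collect h3 x y
  -- `y` and its conjugate `y c` generate a subgroup of class two
  have hyc : (y * c) ^ p = 1 := by
    rw [show y * c = x⁻¹ * y * x⁻¹⁻¹ by rw [inv_inv, mul_assoc, hc]; group, conj_pow, hy]
    group
  obtain ⟨a, ha⟩ : p ∣ p.choose 2 := hp.dvd_choose_self (by norm_num) (by omega)
  have he1 : e ^ p = 1 := by
    have hk : ∀ k : ℕ, (y * c) ^ k * y = y * (y * c) ^ k * e ^ k := by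
      intro k
      induction k with
      | zero => simp
      | succ k ih =>
        calc (y * c) ^ (k + 1) * y = (y * c) ^ k * (y * (c * y)) := by rw [pow_succ]; group
          _ = (y * c) ^ k * y * ((y * c) * e) := by rw [he]; group
          _ = y * (y * c) ^ k * (e ^ k * (y * c)) * e := by rw [ih]; group
          _ = y * (y * c) ^ k * ((y * c) * e ^ k) * e := by rw [((hec (y * c)).pow_left k).eq]
          _ = y * ((y * c) ^ k * (y * c)) * (e ^ k * e) := by group
          _ = _ := by rw [← pow_succ, ← pow_succ]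
    have := hk p
    rw [hyc, one_mul, mul_one] at this
    exact (mul_eq_left.mp this.symm)
  have hc1 : c ^ p = 1 := by
    have := mul_pow_three (x := y) (y := c) (c := e) (d := 1) (e := 1)
      (by rw [he]) (by rw [(hec y).eq, mul_one]) (by rw [(hec c).eq, mul_one])
      Commute.one_left Commute.one_left p
    rw [ha, pow_mul e, he1, one_pow, one_pow, one_pow, mul_one, mul_one, mul_one, hyc, hy,
      one_mul] at this
    exact this.symm
  have hd1 : d ^ p = 1 := by
    have hk : ∀ k : ℕ, c ^ k * x = x * c ^ k * d ^ k := by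
      intro k
      induction k with
      | zero => simp
      | succ k ih =>
        calc c ^ (k + 1) * x = c ^ k * (c * x) := by rw [pow_succ, mul_assoc]
          _ = c ^ k * x * (c * d) := by rw [hd]; group
          _ = x * c ^ k * (d ^ k * c) * d := by rw [ih]; group
          _ = x * c ^ k * (c * d ^ k) * d := by rw [((hdc c).pow_left k).eq]
          _ = x * (c ^ k * c) * (d ^ k * d) := by group
          _ = _ := by rw [← pow_succ, ← pow_succ]
    have := hk p
    rw [hc1, one_mul, mul_one] at this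
    exact (mul_eq_left.mp this.symm)
  rw [mul_pow_prime hp (Or.inr ⟨hp3, h3⟩) hc hd he hdm hem hdc hec hc1 hd1 he1, hx, hy, one_mul]

theorem pow_eq_one_of_mem_omega {p : ℕ} (hp : p.Prime)
    (hcl : (p ≠ 2 ∧ ⁅commutator R, (⊤ : Subgroup R)⁆ = ⊥) ∨
      (3 < p ∧ ⁅⁅commutator R, (⊤ : Subgroup R)⁆, (⊤ : Subgroup R)⁆ = ⊥))
    {g : R} (hg : g ∈ Subgroup.closure {x : R | x ^ p = 1}) : g ^ p = 1 := by
  induction hg using Subgroup.closure_induction with
  | mem x hx => exact hx
  | one => exact one_pow p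
  | mul x y _ _ hx hy =>
    rcases hcl with ⟨h2, h⟩ | ⟨h3, h⟩
    · exact mul_pow_eq_one_two hp h2 h hx hy
    · exact mul_pow_eq_one_three hp h3 h hx hy
  | inv x _ hx => rw [inv_pow, hx, inv_one]

/-- The power map is a homomorphism when the derived group lies in `Ω₁`. -/
theorem power_map_mul {p : ℕ} (hp : p.Prime)
    (hcl : (p ≠ 2 ∧ ⁅commutator R, (⊤ : Subgroup R)⁆ = ⊥) ∨
      (3 < p ∧ ⁅⁅commutator R, (⊤ : Subgroup R)⁆, (⊤ : Subgroup R)⁆ = ⊥))
    (hder : commutator R ≤ Subgroup.closure {x : R | x ^ p = 1}) (x y : R) :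
    (x * y) ^ p = x ^ p * y ^ p := by
  have h3 : ⁅⁅commutator R, (⊤ : Subgroup R)⁆, (⊤ : Subgroup R)⁆ = ⊥ :=
    hcl.elim (fun h => class_three_of_class_two h.2) (fun h => h.2)
  obtain ⟨c, d, e, hcm, hdm, hem, hc, hd, he, hdc, hec⟩ := exists_collect h3 x y
  have hle : ⁅commutator R, (⊤ : Subgroup R)⁆ ≤ commutator R := by
    rw [commutator_def]; exact Subgroup.commutator_le_left _ _
  exact mul_pow_prime hp hcl hc hd he hdm hem hdc hec (pow_eq_one_of_mem_omega hp hcl (hder hcm))
    (pow_eq_one_of_mem_omega hp hcl (hder (hle hdm))) (pow_eq_one_of_mem_omega hp hcl (hder (hle hem)))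

end CfsgLib.SmallClass
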